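import Groth.Agent.MiscA.CurveDict
import Groth.Agent.Vancyc.H588.P1
import Groth.Agent.Quiet.K841.Lift
import Groth.Prelude.Def_Curve
import Groth.Prelude.Def_CohB1
import Groth.Prelude.Def_Mor2
import Mathlib.AlgebraicGeometry.Morphisms.FlatRank
import Mathlib.LinearAlgebra.FreeModule.PID
import Mathlib.RingTheory.Flat.TorsionFree

/-!
# Degree of a map to the projective line and the function field (job S11480 SEPGEO)
-/

set_option autoImplicit false
universe u

open CategoryTheory CategoryTheory.Limits AlgebraicGeometry Polynomial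

namespace K405.SepGeo

/-- The degree of a finite flat extension of `k[t]` is the degree over `k(z)` of the fraction field. -/
theorem finrank_adjoin {k B K : Type u} [Field k] [CommRing B] [IsDomain B] [Field K] [Algebra k K]
    [Algebra B K] [IsFractionRing B K] (ψ : k[X] →+* B) (hfin : ψ.Finite) (hflat : ψ.Flat)
    (hψ : ∀ c : k, algebraMap B K (ψ (C c)) = algebraMap k K c) (d : ℕ)
    (hd : ∀ p : PrimeSpectrum k[X], ψ.finrank p = d) :
    Transcendental k (algebraMap B K (ψ X)) ∧
      Module.finrank (IntermediateField.adjoin k {algebraMap B K (ψ X)}) K = d := by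
  let _ : Algebra k[X] B := ψ.toAlgebra
  have h1 : Module.Finite k[X] B := hfin
  have h2 : Module.Flat k[X] B := hflat
  have h3 : Module.IsTorsionFree k[X] B := inferInstance
  have h4 : Module.Free k[X] B := inferInstance
  have h5 : Module.finrank k[X] B = d := by
    have h6 : Module.rankAtStalk (R := k[X]) B = Module.finrank k[X] B :=
      Module.rankAtStalk_eq_finrank_of_free
    let p : PrimeSpectrum k[X] := Classical.arbitrary _
    have h7 := congrFun h6 p
    have h8 : Module.rankAtStalk (R := k[X]) B p = d := by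
      rw [← RingHom.finrank_algebraMap]
      exact hd p
    rw [h8] at h7
    exact h7.symm
  have hinj : Function.Injective ψ := FaithfulSMul.algebraMap_injective k[X] B
  set z := algebraMap B K (ψ X) with hz
  have haev : ∀ p : k[X], aeval z p = algebraMap B K (ψ p) := by
    intro p
    have : ((aeval z : k[X] →ₐ[k] K) : k[X] →+* K) = (algebraMap B K).comp ψ := by
      apply Polynomial.ringHom_ext
      · intro c
        change aeval z (C c) = algebraMap B K (ψ (C c))
        rw [aeval_C, hψ]
      · change aeval z X = algebraMap B K (ψ X)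
        rw [aeval_X]
    exact congrArg (fun φ : k[X] →+* K => φ p) this
  have hainj : Function.Injective (aeval z : k[X] →ₐ[k] K) := by
    intro p q hpq
    rw [haev, haev] at hpq
    exact hinj (IsFractionRing.injective B K hpq)
  have htr : Transcendental k z := transcendental_iff_injective.2 hainj
  refine ⟨htr, ?_⟩
  let E := IntermediateField.adjoin k {z}
  let z' : E := ⟨z, IntermediateField.mem_adjoin_simple_self k z⟩
  let _ : Algebra k[X] E := (aeval z' : k[X] →ₐ[k] E).toRingHom.toAlgebra
  have haE : ∀ p : k[X], algebraMap E K (algebraMap k[X] E p) = aeval z p := by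
    intro p
    change algebraMap E K (aeval z' p) = aeval z p
    rw [← aeval_algebraMap_apply]
    rfl
  have hEinj : Function.Injective (algebraMap k[X] E) := by
    intro p q hpq
    apply hainj
    rw [← haE, ← haE, hpq]
  have : FaithfulSMul k[X] E := (faithfulSMul_iff_algebraMap_injective _ _).2 hEinj
  have hfr : IsFractionRing k[X] E := IsFractionRing.of_field k[X] E (by
    rintro ⟨x, hx⟩
    obtain ⟨r, s, hrs⟩ := (IntermediateField.mem_adjoin_simple_iff k x).1 hx
    refine ⟨r, s, ?_⟩
    apply (algebraMap E K).injective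
    rw [map_div₀, haE, haE]
    exact hrs)
  let _ : Algebra k[X] K := ((algebraMap B K).comp ψ).toAlgebra
  have t1 : IsScalarTower k[X] B K := IsScalarTower.of_algebraMap_eq fun _ => rfl
  have t2 : IsScalarTower k[X] E K := IsScalarTower.of_algebraMap_eq fun p => by
    rw [haE, haev]
    rfl
  have := IsFractionRing.finrank_eq k[X] E B K
  rw [this, h5]

/-- The affine line as an affine open of the projective line. -/
theorem exists_chart {k : Type u} [Field k] {C₀ : Scheme.{u}} (π₀ : C₀ ⟶ CohB1.ProjSpace 1 k)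
    [IsFinite π₀] :
    ∃ (U : C₀.Opens) (hU : IsAffineOpen U) (ψ : k[X] →+* Γ(C₀, U)),
      IsPullback hU.fromSpec (Spec.map (CommRingCat.ofHom ψ)) π₀
        (Groth.Agent.Vancyc.H588.P1.w k) := by
  let w := Groth.Agent.Vancyc.H588.P1.w k
  let W : (CohB1.ProjSpace 1 k).Opens := w.opensRange
  have hW : IsAffineOpen W := isAffineOpen_opensRange w
  have hU : IsAffineOpen (π₀ ⁻¹ᵁ W) := hW.preimage π₀
  let ew : Spec (CommRingCat.of k[X]) ≅ Spec Γ(CohB1.ProjSpace 1 k, W) :=
    IsOpenImmersion.isoOfRangeEq w hW.fromSpec (by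
      rw [hW.range_fromSpec]
      rfl)
  have hew : ew.hom ≫ hW.fromSpec = w := IsOpenImmersion.isoOfRangeEq_hom_fac _ _ _
  obtain ⟨γ, hγ⟩ := Spec.map_surjective ew.inv
  have h1 := K841.Quiet.isPullback_fromSpec π₀ hW hU
  refine ⟨π₀ ⁻¹ᵁ W, hU, (γ ≫ π₀.app W).hom, ?_⟩
  rw [CommRingCat.ofHom_hom, Spec.map_comp, hγ]
  refine h1.of_iso (Iso.refl _) (Iso.refl _) ew.symm (Iso.refl _) ?_ ?_ ?_ ?_
  · simp
  · simp
  · simp
  · rw [Iso.symm_hom, Iso.refl_hom, Category.comp_id, Iso.eq_inv_comp]
    exact hew

/-- NODE SEPGEO. -/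
theorem exists_of_map (k : Type u) [Field k] [IsAlgClosed k] (C₀ : Scheme.{u}) (g₀ : C₀ ⟶ Spec (CommRingCat.of k))
    (hC₀ : Curve.IsSmoothProperCurve k C₀ g₀) [IsIntegral C₀] (d : ℕ) (hd : 1 ≤ d) (π₀ : C₀ ⟶ CohB1.ProjSpace 1 k)
    (hπ₀ : π₀ ≫ CohB1.ProjSpace.toSpec 1 k = g₀) (hdeg : Mor2.IsFinLocFreeOfDeg d π₀)
    [Algebra k C₀.functionField] (hk : C₀.fromSpecStalk (genericPoint C₀) ≫ g₀ =
      Spec.map (CommRingCat.ofHom (algebraMap k C₀.functionField))) :
    ∃ z : C₀.functionField, Transcendental k z ∧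
      Module.finrank (IntermediateField.adjoin k {z}) C₀.functionField = d := by
  obtain ⟨⟨hfin, hflat, -⟩, hrk⟩ := hdeg
  obtain ⟨U, hU, ψ, hpb⟩ := exists_chart π₀
  have hfinS : IsFinite (Spec.map (CommRingCat.ofHom ψ)) :=
    MorphismProperty.of_isPullback hpb hfin
  have hflatS : Flat (Spec.map (CommRingCat.ofHom ψ)) :=
    MorphismProperty.of_isPullback hpb hflat
  have hψfin : ψ.Finite := by
    rw [IsFinite.SpecMap_iff] at hfinS
    exact hfinS
  have hψflat : ψ.Flat := by
    rw [Flat.SpecMap_iff] at hflatS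
    exact hflatS
  have hrank : ∀ p : PrimeSpectrum k[X], ψ.finrank p = d := by
    intro p
    have h1 := Scheme.Hom.finrank_of_isPullback _ _ _ _ hpb p
    rw [hrk, Scheme.Hom.finrank_SpecMap_eq_finrank hψfin hψflat] at h1
    exact h1
  -- the chart is not empty
  have hsurj : Surjective (Spec.map (CommRingCat.ofHom ψ)) := by
    rw [← Scheme.Hom.one_le_finrank_iff_surjective]
    intro p
    rw [Scheme.Hom.finrank_SpecMap_eq_finrank hψfin hψflat]
    change 1 ≤ ψ.finrank p
    rw [hrank]
    exact hd
  have hne : Nonempty U := by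
    obtain ⟨q, -⟩ := hsurj.surj (Classical.arbitrary (PrimeSpectrum k[X]))
    refine ⟨⟨hU.fromSpec q, ?_⟩⟩
    have : hU.fromSpec q ∈ Set.range hU.fromSpec := ⟨q, rfl⟩
    rw [hU.range_fromSpec] at this
    exact this
  have hηU : genericPoint C₀ ∈ U :=
    ((genericPoint_spec C₀).mem_open_set_iff U.isOpen).mpr (by simpa using hne)
  have hfrac : IsFractionRing Γ(C₀, U) C₀.functionField :=
    functionField_isFractionRing_of_isAffineOpen C₀ U hU
  have hcomp : ∀ c : k, algebraMap Γ(C₀, U) C₀.functionField (ψ (C c)) =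
      algebraMap k C₀.functionField c := by
    intro c
    have h1 : Spec.map (CommRingCat.ofHom (algebraMap k C₀.functionField)) =
        Spec.map (CommRingCat.ofHom ((algebraMap Γ(C₀, U) C₀.functionField).comp (ψ.comp C))) := by
      rw [← hk, ← hπ₀, ← hU.fromSpecStalk_eq_fromSpecStalk hηU, IsAffineOpen.fromSpecStalk,
        Category.assoc, ← Category.assoc hU.fromSpec, hpb.w, Category.assoc,
        Groth.Agent.Vancyc.H588.P1.w_toSpec, ← Spec.map_comp, ← Spec.map_comp]
      rfl
    have h2 := Spec.map_injective h1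
    exact (congrArg (fun φ : CommRingCat.of k ⟶ CommRingCat.of C₀.functionField => φ.hom c) h2).symm
  exact ⟨_, finrank_adjoin ψ hψfin hψflat hcomp d hrank⟩

end K405.SepGeo
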